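import Groth.Agent.Props.GenPull
import Groth.Agent.LineCoc.Basic
import Groth.Agent.AmpleLib.GenIso

/-!
# Descending an invertible module with prescribed generators

Let `f : X ⟶ Y`, let `L` be an invertible module on `X` with generators over the preimages of the
members of a cover of `Y`. If units on `Y` relating these generators are given compatibly, then `L`
is the pullback of an invertible module on `Y` (`nonempty_iso_mod`). In particular this applies when
`f` is bijective on functions over the pairwise intersections of the cover (`exists_descend_of_bij`).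
-/

set_option autoImplicit false
set_option linter.style.haveILetI false
set_option backward.isDefEq.respectTransparency false
set_option backward.isDefEq.respectTransparency.types false

universe u

open CategoryTheory AlgebraicGeometry Opposite TopologicalSpace

noncomputable section

namespace Groth.Agent.PicStar

open Groth.Agent.QCoh Groth.Agent.Props.GenLocus Groth.Agent.Props.GenPull

variable {X Y : Scheme.{u}}

/-- The pullback of the module of a cocycle matching the generators. -/
theorem nonempty_iso_mod (f : X ⟶ Y) {L : X.Modules} (C : LineCoc.Cocycle Y)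
    (e : ∀ i, Γ(L, f ⁻¹ᵁ C.W i)) (he : ∀ i, IsGen L (f ⁻¹ᵁ C.W i) (e i))
    (hae : ∀ i j, res L (f.preimage_mono (inf_le_right : C.W i ⊓ C.W j ≤ C.W j)) (e j) =
      f.app _ (C.a i j) • res L (f.preimage_mono (inf_le_left : C.W i ⊓ C.W j ≤ C.W i)) (e i)) :
    Nonempty ((Scheme.Modules.pullback f).obj (LineCoc.mod C) ≅ L) := by
  have hgen : ∀ i, IsGen ((Scheme.Modules.pullback f).obj (LineCoc.mod C)) (f ⁻¹ᵁ C.W i)
      (pb f (LineCoc.gen C i)) := fun i => isGen_pb f (LineCoc.isGen_gen C i)
  obtain ⟨ψ, -⟩ := AmpleLib.exists_iso_of_gen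
    (M := (Scheme.Modules.pullback f).obj (LineCoc.mod C)) (N := L)
    (fun i => f ⁻¹ᵁ C.W i) (fun x _ => by
      obtain ⟨i, hi⟩ := Opens.mem_iSup.1 (C.cover (trivial : f x ∈ (⊤ : Y.Opens)))
      exact Opens.mem_iSup.2 ⟨i, hi⟩) _ hgen e he
    (fun i j V hi hj u hu => by
      have hV : V ≤ f ⁻¹ᵁ (C.W i ⊓ C.W j) := le_inf hi hj
      have h1 := congrArg (LFFrame.unitSec f (LineCoc.mod C) (C.W i ⊓ C.W j)) (LineCoc.res_gen_eq C i j)
      rw [LFFrame.unitSec_smul, LFFrame.unitSec_res, LFFrame.unitSec_res] at h1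
      have h2 := congrArg (res _ hV) h1
      rw [res_smul, res_res, res_res] at h2
      have hu' : u = rres hV (f.app _ (C.a i j)) := (hgen i).injective hi (hu.symm.trans h2)
      have h3 := congrArg (res L hV) (hae i j)
      rw [res_smul, res_res, res_res] at h3
      rw [hu']
      exact h3)
  exact ⟨ψ⟩

/-- Descend along `f` when `f` is bijective on functions over the pairwise intersections. -/
theorem exists_descend_of_bij (f : X ⟶ Y) {L : X.Modules} {ι : Type u} (W : ι → Y.Opens)
    (hW : ⊤ ≤ iSup W) (e : ∀ i, Γ(L, f ⁻¹ᵁ W i)) (he : ∀ i, IsGen L (f ⁻¹ᵁ W i) (e i))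
    (hbij : ∀ i j, i ≠ j → ∀ V : Y.Opens, V ≤ W i ⊓ W j → Function.Bijective (f.app V)) :
    ∃ N : Y.Modules, PicF.IsInvertible N ∧ Nonempty ((Scheme.Modules.pullback f).obj N ≅ L) := by
  classical
  have ha : ∀ i j, ∃ a : Γ(Y, W i ⊓ W j), (i = j → a = 1) ∧
      res L (f.preimage_mono (inf_le_right : W i ⊓ W j ≤ W j)) (e j) =
        f.app _ a • res L (f.preimage_mono (inf_le_left : W i ⊓ W j ≤ W i)) (e i) := by
    intro i j
    by_cases hij : i = j
    · subst hij; exact ⟨1, fun _ => rfl, by rw [map_one, one_smul]⟩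
    · obtain ⟨c, hc, -⟩ := (he i).exists_eq (f.preimage_mono (inf_le_left : W i ⊓ W j ≤ W i))
        (res L (f.preimage_mono (inf_le_right : W i ⊓ W j ≤ W j)) (e j))
      obtain ⟨a, ha⟩ := (hbij i j hij _ le_rfl).2 c
      exact ⟨a, fun h => (hij h).elim, by rw [ha]; exact hc⟩
  choose a ha1 ha using ha
  have haV : ∀ i j (V : Y.Opens) (h : V ≤ W i ⊓ W j),
      res L (f.preimage_mono (h.trans inf_le_right)) (e j) =
        f.app V (rres h (a i j)) • res L (f.preimage_mono (h.trans inf_le_left)) (e i) := by
    intro i j V h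
    have h1 := congrArg (res L (f.preimage_mono h)) (ha i j)
    rw [res_smul, res_res, res_res, ← app_rres] at h1
    exact h1
  let C : LineCoc.Cocycle Y :=
    { ι := ι
      W := W
      a := a
      cover := hW
      self := fun i => ha1 i i rfl
      coc := fun i j k V h₁ h₂ h₃ => by
        by_cases hij : i = j
        · subst hij; rw [ha1 i i rfl, map_one, one_mul]
        · have hb := hbij i j hij V h₁
          refine hb.1 ((he i).injective (f.preimage_mono (h₁.trans inf_le_left)) ?_)
          rw [← haV i k V h₃, haV j k V h₂, haV i j V h₁, smul_smul, map_mul, mul_comm] }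
  exact ⟨LineCoc.mod C, LineCoc.isInvertible C, nonempty_iso_mod f C e he ha⟩

/-- Descend a family of invertible modules along a family of morphisms which is bijective on
functions over the pairwise intersections of a cover. -/
theorem exists_descend_family {κ : Type*} {Z : κ → Scheme.{u}} (f : ∀ k, Z k ⟶ Y)
    {L : ∀ k, (Z k).Modules} {ι : Type u} (W : ι → Y.Opens) (hW : ⊤ ≤ iSup W)
    (e : ∀ k i, Γ(L k, f k ⁻¹ᵁ W i)) (he : ∀ k i, IsGen (L k) (f k ⁻¹ᵁ W i) (e k i))
    (hinj : ∀ i j, i ≠ j → ∀ V : Y.Opens, V ≤ W i ⊓ W j → ∀ a b : Γ(Y, V),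
      (∀ k, (f k).app V a = (f k).app V b) → a = b)
    (hsurj : ∀ i j, i ≠ j → ∀ c : ∀ k, Γ(Z k, f k ⁻¹ᵁ (W i ⊓ W j)),
      ∃ a : Γ(Y, W i ⊓ W j), ∀ k, (f k).app _ a = c k) :
    ∃ N : Y.Modules, PicF.IsInvertible N ∧
      ∀ k, Nonempty ((Scheme.Modules.pullback (f k)).obj N ≅ L k) := by
  classical
  have ha : ∀ i j, ∃ a : Γ(Y, W i ⊓ W j), (i = j → a = 1) ∧
      ∀ k, res (L k) ((f k).preimage_mono (inf_le_right : W i ⊓ W j ≤ W j)) (e k j) =
        (f k).app _ a • res (L k) ((f k).preimage_mono (inf_le_left : W i ⊓ W j ≤ W i)) (e k i) := by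
    intro i j
    by_cases hij : i = j
    · subst hij; exact ⟨1, fun _ => rfl, fun k => by rw [map_one, one_smul]⟩
    · choose c hc using fun k =>
        ((he k i).exists_eq ((f k).preimage_mono (inf_le_left : W i ⊓ W j ≤ W i))
          (res (L k) ((f k).preimage_mono (inf_le_right : W i ⊓ W j ≤ W j)) (e k j))).exists
      obtain ⟨a, ha⟩ := hsurj i j hij c
      exact ⟨a, fun h => (hij h).elim, fun k => by rw [ha k]; exact hc k⟩
  choose a ha1 ha using ha
  have haV : ∀ k i j (V : Y.Opens) (h : V ≤ W i ⊓ W j),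
      res (L k) ((f k).preimage_mono (h.trans inf_le_right)) (e k j) =
        (f k).app V (rres h (a i j)) •
          res (L k) ((f k).preimage_mono (h.trans inf_le_left)) (e k i) := by
    intro k i j V h
    have h1 := congrArg (res (L k) ((f k).preimage_mono h)) (ha i j k)
    rw [res_smul, res_res, res_res, ← app_rres] at h1
    exact h1
  let C : LineCoc.Cocycle Y :=
    { ι := ι
      W := W
      a := a
      cover := hW
      self := fun i => ha1 i i rfl
      coc := fun i j l V h₁ h₂ h₃ => by
        by_cases hij : i = j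
        · subst hij; rw [ha1 i i rfl, map_one, one_mul]
        · refine hinj i j hij V h₁ _ _ fun k =>
            (he k i).injective ((f k).preimage_mono (h₁.trans inf_le_left)) ?_
          rw [← haV k i l V h₃, haV k j l V h₂, haV k i j V h₁, smul_smul, map_mul, mul_comm] }
  exact ⟨LineCoc.mod C, LineCoc.isInvertible C, fun k =>
    nonempty_iso_mod (f k) C (e k) (he k) fun i j => ha i j k⟩

end Groth.Agent.PicStar

end
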