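import Groth.Agent.PicStar.FiniteIso

/-!
# Invertible modules from a closed cover with discrete intersections

On a reduced scheme covered by finitely many closed subschemes with discrete pairwise intersections,
any family of invertible modules on the pieces comes from an invertible module on the scheme.
-/

set_option autoImplicit false
set_option linter.style.haveILetI false
set_option backward.isDefEq.respectTransparency false
set_option backward.isDefEq.respectTransparency.types false

universe u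

open CategoryTheory AlgebraicGeometry Opposite TopologicalSpace

noncomputable section

namespace Groth.Agent.PicStar

open Groth.Agent.QCoh Groth.Agent.Props.GenLocus Groth.Agent.Props.GenPull

variable (X : Scheme.{u}) {n : ℕ} (Z : Fin n → X.IdealSheafData)

/-- Around each point, an open meeting each pairwise intersection at most in that point. -/
theorem exists_sep_cover
    (hdisc : ∀ i j, i ≠ j → DiscreteTopology ↥(((Z i).support : Set X) ∩ ((Z j).support : Set X)))
    (y : X) : ∃ O : X.Opens, y ∈ O ∧ ∀ z ∈ O, ∀ i j, i ≠ j →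
      z ∈ ((Z i).support : Set X) → z ∈ ((Z j).support : Set X) → z = y := by
  classical
  have h : ∀ p : {p : Fin n × Fin n // p.1 ≠ p.2}, ∃ O : X.Opens, y ∈ O ∧
      ∀ z ∈ O, z ∈ ((Z p.1.1).support : Set X) ∩ ((Z p.1.2).support : Set X) → z = y := by
    intro p
    let D : Set X := ((Z p.1.1).support : Set X) ∩ ((Z p.1.2).support : Set X)
    have hD : IsClosed D := (Z p.1.1).support.isClosed.inter (Z p.1.2).support.isClosed
    let Vp : X.Opens := ⟨Dᶜ, hD.isOpen_compl⟩
    obtain ⟨O, hyO, -, hO⟩ := exists_sep Vp (by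
      have : ((Vp : Set X)ᶜ : Set X) = D := compl_compl D
      rw [this]
      exact hdisc _ _ p.2) y
    exact ⟨O, hyO, fun z hz hzD => hO z hz fun hzV => hzV hzD⟩
  choose O hyO hO using h
  refine ⟨⟨⋂ p, (O p : Set X), isOpen_iInter_of_finite fun p => (O p).2⟩,
    Set.mem_iInter.mpr hyO, fun z hz i j hij h1 h2 => ?_⟩
  exact hO ⟨(i, j), hij⟩ z (Set.mem_iInter.mp hz _) ⟨h1, h2⟩

/-- An invertible module restricting to given ones on the members of a closed cover. -/
theorem exists_descend_cover [IsReduced X]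
    (hcov : ⋃ i, ((Z i).support : Set X) = Set.univ)
    (hdisc : ∀ i j, i ≠ j → DiscreteTopology ↥(((Z i).support : Set X) ∩ ((Z j).support : Set X)))
    (L : ∀ i, (Z i).subscheme.Modules) (hL : ∀ i, PicF.IsInvertible (L i)) :
    ∃ M : X.Modules, PicF.IsInvertible M ∧
      ∀ i, Nonempty ((Scheme.Modules.pullback (Z i).subschemeι).obj M ≅ L i) := by
  classical
  choose O hyO hsep using exists_sep_cover X Z hdisc
  choose W' e' hyW' hW'O he' using fun (y : X) (k : Fin n) =>
    exists_gen_fibre (Z k).subschemeι (hL k) (hyO y)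
  let W : X → X.Opens := fun y =>
    O y ⊓ ⟨⋂ k, (W' y k : Set X), isOpen_iInter_of_finite fun k => (W' y k).2⟩
  have hWW' : ∀ y k, W y ≤ W' y k := fun y k z hz => Set.mem_iInter.mp hz.2 k
  have hyW : ∀ y, y ∈ W y := fun y => ⟨hyO y, Set.mem_iInter.mpr (hyW' y)⟩
  -- over the pairwise intersections the pieces are disjoint
  have huniq : ∀ y y' : X, y ≠ y' → ∀ z ∈ W y ⊓ W y', ∀ i j,
      z ∈ ((Z i).support : Set X) → z ∈ ((Z j).support : Set X) → i = j := by
    intro y y' hne z hz i j h1 h2
    by_contra hij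
    exact hne ((hsep y z hz.1.1 i j hij h1 h2).symm.trans (hsep y' z hz.2.1 i j hij h1 h2))
  let P : X.Opens → Fin n → X.Opens := fun V k =>
    V ⊓ ⟨(⋃ j : {j // j ≠ k}, ((Z j.1).support : Set X))ᶜ,
      (isClosed_iUnion_of_finite fun (j : {j : Fin n // j ≠ k}) => (Z j.1).support.isClosed).isOpen_compl⟩
  have hPle : ∀ V k, P V k ≤ V := fun V k => inf_le_left
  have hPsupp : ∀ V k, (P V k : Set X) ⊆ ((Z k).support : Set X) := by
    intro V k z hz
    obtain ⟨j, hj⟩ := Set.mem_iUnion.mp (hcov.ge (Set.mem_univ z))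
    by_contra hzk
    exact hz.2 (Set.mem_iUnion.mpr ⟨⟨j, fun h => hzk (h ▸ hj)⟩, hj⟩)
  have hPdisj : ∀ V (k l : Fin n), k ≠ l → P V k ⊓ P V l ≤ ⊥ := fun V k l h z hz =>
    (hz.1.2 (Set.mem_iUnion.mpr ⟨⟨l, h.symm⟩, hPsupp V l hz.2⟩)).elim
  have hPcov : ∀ y y', y ≠ y' → ∀ V, V ≤ W y ⊓ W y' → V ≤ ⨆ k, P V k := by
    intro y y' hne V hV z hz
    obtain ⟨k, hk⟩ := Set.mem_iUnion.mp (hcov.ge (Set.mem_univ z))
    refine Opens.mem_iSup.mpr ⟨k, hz, fun h => ?_⟩
    obtain ⟨j, hj⟩ := Set.mem_iUnion.mp h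
    exact j.2 (huniq y y' hne z (hV hz) j.1 k hj hk)
  have hpre : ∀ y y', y ≠ y' → ∀ V, V ≤ W y ⊓ W y' → ∀ k,
      (Z k).subschemeι ⁻¹ᵁ V ≤ (Z k).subschemeι ⁻¹ᵁ P V k := by
    intro y y' hne V hV k x hx
    refine ⟨hx, fun h => ?_⟩
    obtain ⟨j, hj⟩ := Set.mem_iUnion.mp h
    exact j.2 (huniq y y' hne _ (hV hx) j.1 k hj
      ((Z k).range_subschemeι.le ⟨x, rfl⟩))
  have hbij : ∀ V k, Function.Bijective ((Z k).subschemeι.app (P V k)) := by
    intro V k
    haveI : Surjective ((Z k).subschemeι ∣_ P V k) := ⟨fun z => by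
      obtain ⟨x, hx⟩ := (Z k).range_subschemeι.ge (hPsupp V k z.2)
      exact ⟨⟨x, show (Z k).subschemeι x ∈ P V k by rw [hx]; exact z.2⟩, Subtype.ext (by
        rw [morphismRestrict_base_coe]; exact hx)⟩⟩
    haveI : IsIso ((Z k).subschemeι ∣_ P V k) := isIso_of_isClosedImmersion_of_surjective _
    exact bijective_app_of_isIso _ _ le_rfl
  refine exists_descend_family (fun k => (Z k).subschemeι) W
    (fun y _ => Opens.mem_iSup.mpr ⟨y, hyW y⟩)
    (fun k y => res (L k) ((Z k).subschemeι.preimage_mono (hWW' y k)) (e' y k))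
    (fun k y => (he' y k).restrict _) ?_ ?_
  · intro y y' hne V hV a b hab
    refine X.sheaf.eq_of_locally_eq' (P V) V (fun k => homOfLE (hPle V k)) (hPcov y y' hne V hV) a b
      fun k => (hbij V k).1 ?_
    show (Z k).subschemeι.app (P V k) (rres (hPle V k) a) =
      (Z k).subschemeι.app (P V k) (rres (hPle V k) b)
    rw [app_rres, app_rres, hab k]
  · intro y y' hne c
    choose b hb using fun k => (hbij (W y ⊓ W y') k).2
      (rres ((Z k).subschemeι.preimage_mono (hPle _ k)) (c k))
    obtain ⟨a, ha, -⟩ := X.sheaf.existsUnique_gluing' (P (W y ⊓ W y')) (W y ⊓ W y')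
      (fun k => homOfLE (hPle _ k)) (hPcov y y' hne _ le_rfl) b (fun k l => by
        by_cases hkl : k = l
        · subst hkl; rfl
        · exact X.sheaf.eq_of_locally_eq' (fun i : PEmpty.{1} => i.elim) _ (fun i => i.elim)
            ((hPdisj _ k l hkl).trans bot_le) _ _ (fun i => i.elim))
    refine ⟨a, fun k => ?_⟩
    have h1 := hb k
    rw [← ha k] at h1
    have h2 : (Z k).subschemeι.app (P (W y ⊓ W y') k) (rres (hPle _ k) a) =
        rres ((Z k).subschemeι.preimage_mono (hPle _ k)) (c k) := h1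
    rw [app_rres] at h2
    have h3 := congrArg (rres (hpre y y' hne _ le_rfl k)) h2
    rw [rres_rres, rres_rres, rres_self, rres_self] at h3
    exact h3

end Groth.Agent.PicStar

end
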