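import Groth.Agent.PicStar.Lift
import Groth.Agent.FlatMor.GenericPts
import Mathlib.AlgebraicGeometry.Morphisms.Finite
import Mathlib.AlgebraicGeometry.IdealSheaf.Subscheme

/-!
# Invertible modules along finite morphisms which are closed immersions over a dense open
-/

set_option autoImplicit false
set_option linter.style.haveILetI false
set_option backward.isDefEq.respectTransparency false
set_option backward.isDefEq.respectTransparency.types false

universe u

open CategoryTheory AlgebraicGeometry Opposite TopologicalSpace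

noncomputable section

namespace Groth.Agent.PicStar

open Groth.Agent.QCoh Groth.Agent.Props.GenLocus

variable {X Y : Scheme.{u}}

/-- The morphism to the scheme-theoretic image is an isomorphism over any open where the morphism
is a closed immersion. -/
theorem isIso_toImage_restrict (f : X ⟶ Y) [IsAffineHom f] (V : Y.Opens)
    [IsClosedImmersion (f ∣_ V)] : IsIso (f.toImage ∣_ (f.imageι ⁻¹ᵁ V)) := by
  set g := f.toImage
  have hfg : g ≫ f.imageι = f := f.toImage_imageι
  haveI : IsAffineHom g := by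
    haveI : IsAffineHom (g ≫ f.imageι) := by rw [hfg]; infer_instance
    exact IsAffineHom.of_comp g f.imageι
  haveI hci : IsClosedImmersion (g ∣_ f.imageι ⁻¹ᵁ V) := by
    haveI : IsClosedImmersion ((g ∣_ f.imageι ⁻¹ᵁ V) ≫ f.imageι ∣_ V) := by
      have h : IsClosedImmersion ((g ≫ f.imageι) ∣_ V) := by rw [hfg]; infer_instance
      rwa [morphismRestrict_comp] at h
    exact IsClosedImmersion.of_comp _ (f.imageι ∣_ V)
  let P := f.imageι ⁻¹ᵁ V
  show MorphismProperty.isomorphisms Scheme (g ∣_ P)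
  rw [IsZariskiLocalAtTarget.iff_of_iSup_eq_top (P := MorphismProperty.isomorphisms Scheme)
    (fun U : {U : Y.affineOpens // U.1 ≤ V} => P.ι ⁻¹ᵁ (f.imageι ⁻¹ᵁ U.1.1)) (eq_top_iff.mpr fun z _ => by
      obtain ⟨U, hU, hzU, hUV⟩ := exists_isAffineOpen_mem_and_subset (X := Y) (x := f.imageι z.1)
        (U := V) z.2
      exact Opens.mem_iSup.mpr ⟨⟨⟨U, hU⟩, hUV⟩, hzU⟩)]
  intro U
  have himg : P.ι ''ᵁ (P.ι ⁻¹ᵁ (f.imageι ⁻¹ᵁ U.1.1)) = f.imageι ⁻¹ᵁ U.1.1 := by
    rw [Scheme.Hom.image_preimage_eq_opensRange_inf, Scheme.Opens.opensRange_ι,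
      inf_eq_right.mpr (f.imageι.preimage_mono U.2)]
  refine ((MorphismProperty.isomorphisms Scheme).arrow_mk_iso_iff
    (morphismRestrictRestrict g P _)).mpr ?_
  rw [himg]
  have hW : IsAffineOpen (f.imageι ⁻¹ᵁ U.1.1) := U.1.2.preimage f.imageι
  show IsIso (g ∣_ _)
  rw [isIso_morphismRestrict_iff_isIso_app _ hW, ConcreteCategory.isIso_iff_bijective]
  refine ⟨f.toImage_app_injective U.1, ?_⟩
  have hW' : IsAffineOpen (P.ι ⁻¹ᵁ (f.imageι ⁻¹ᵁ U.1.1)) :=
    hW.preimage_of_isOpenImmersion P.ι (by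
      rw [Scheme.Opens.opensRange_ι]; exact f.imageι.preimage_mono U.2)
  have h1 := Scheme.Hom.app_surjective (g ∣_ P) _ hW'
  rw [morphismRestrict_app] at h1
  have h2 : Function.Surjective (g.app (P.ι ''ᵁ (P.ι ⁻¹ᵁ (f.imageι ⁻¹ᵁ U.1.1)))) := by
    intro c
    obtain ⟨a, ha⟩ := h1 (X.presheaf.map
      (eqToHom (image_morphismRestrict_preimage g P (P.ι ⁻¹ᵁ (f.imageι ⁻¹ᵁ U.1.1)))).op c)
    exact ⟨a, (ConcreteCategory.bijective_of_isIso (X.presheaf.map
      (eqToHom (image_morphismRestrict_preimage g P _)).op)).1 ha⟩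
  rwa [himg] at h2

/-- Along a finite morphism which is a closed immersion over a dense open of a Noetherian
one-dimensional target every invertible module is a pullback. -/
theorem exists_descend_dense (f : X ⟶ Y) [IsFinite f] [IsNoetherian Y]
    (hdim : topologicalKrullDim Y ≤ 1) (V : Y.Opens) (hV : Dense (V : Set Y))
    (hfV : IsClosedImmersion (f ∣_ V)) {L : X.Modules} (hL : PicF.IsInvertible L) :
    ∃ N : Y.Modules, PicF.IsInvertible N ∧ Nonempty ((Scheme.Modules.pullback f).obj N ≅ L) := by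
  haveI := hfV
  haveI : IsFinite (f.toImage ≫ f.imageι) := by rw [f.toImage_imageι]; infer_instance
  haveI : IsFinite f.toImage := MorphismProperty.of_postcomp (W := @IsFinite) (W' := @IsSeparated)
    f.toImage f.imageι inferInstance inferInstance
  have hgen : genericPoints Y ⊆ V := fun η hη => by
    refine FlatMor.GenericPts.mem_of_dense_of_finite NoetherianSpace.finite_irreducibleComponents V.2 hV ?_
    exact hη
  have hfin : ((V : Set Y)ᶜ).Finite := finite_of_closed_points V.2.isClosed_compl fun z hz =>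
    isClosed_singleton_of_not_generic hdim fun h => hz (hgen h)
  have hdisc : DiscreteTopology (((f.imageι ⁻¹ᵁ V : f.image.Opens) : Set f.image)ᶜ : Set f.image) := by
    haveI : Finite ↥(((f.imageι ⁻¹ᵁ V : f.image.Opens) : Set f.image)ᶜ) :=
      (hfin.preimage f.imageι.isClosedEmbedding.injective.injOn).to_subtype
    haveI : T1Space ↥(((f.imageι ⁻¹ᵁ V : f.image.Opens) : Set f.image)ᶜ) := ⟨fun z => by
      have h1 := (isClosed_singleton_of_not_generic hdim (x := f.imageι z.1)
        fun h => z.2 (hgen h)).preimage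
          (show Continuous fun w : ↥(((f.imageι ⁻¹ᵁ V : f.image.Opens) : Set f.image)ᶜ) => f.imageι w.1
            from f.imageι.continuous.comp continuous_subtype_val)
      convert h1 using 1
      ext w
      exact ⟨fun h => congrArg (fun w : ↥(((f.imageι ⁻¹ᵁ V : f.image.Opens) : Set f.image)ᶜ) =>
          f.imageι w.1) h,
        fun h => Subtype.ext (f.imageι.isClosedEmbedding.injective h)⟩⟩
    infer_instance
  obtain ⟨L₁, hL₁, ⟨φ⟩⟩ := exists_descend_finite f.toImage (f.imageι ⁻¹ᵁ V)
    (isIso_toImage_restrict f V) hdisc hL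
  obtain ⟨N, hN, ⟨ψ⟩⟩ := exists_lift f.imageι hdim hL₁
  refine ⟨N, hN, ⟨?_⟩⟩
  exact (Scheme.Modules.pullbackCongr f.toImage_imageι.symm).app N ≪≫
    ((Scheme.Modules.pullbackComp f.toImage f.imageι).app N).symm ≪≫
    (Scheme.Modules.pullback f.toImage).mapIso ψ ≪≫ φ

end Groth.Agent.PicStar

end
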