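import Groth.Agent.PicStar.Semilocal
import Groth.Agent.PicStar.Basic

/-!
# Invertible modules along finite morphisms that are isomorphisms off a discrete closed set
-/

set_option autoImplicit false
set_option linter.style.haveILetI false
set_option backward.isDefEq.respectTransparency false
set_option backward.isDefEq.respectTransparency.types false

universe u

open CategoryTheory AlgebraicGeometry Opposite TopologicalSpace

noncomputable section

namespace Groth.Agent.PicStar

open Groth.Agent.QCoh Groth.Agent.Props.GenLocus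

variable {X Y : Scheme.{u}}

/-- Over an open where `f` is an isomorphism, `f` is bijective on functions. -/
theorem bijective_app_of_isIso (f : X ⟶ Y) (V : Y.Opens) [IsIso (f ∣_ V)] {W : Y.Opens} (h : W ≤ V) :
    Function.Bijective (f.app W) := by
  have him : V.ι ''ᵁ (V.ι ⁻¹ᵁ W) = W := by
    rw [Scheme.Hom.image_preimage_eq_opensRange_inf, Scheme.Opens.opensRange_ι, inf_eq_right.mpr h]
  haveI h2 : IsIso ((f ∣_ V).app (V.ι ⁻¹ᵁ W)) := inferInstance
  rw [morphismRestrict_app] at h2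
  haveI h3 : IsIso (f.app (V.ι ''ᵁ (V.ι ⁻¹ᵁ W))) := IsIso.of_isIso_comp_right _ (X.presheaf.map
    (eqToHom (image_morphismRestrict_preimage f V (V.ι ⁻¹ᵁ W))).op)
  have h4 := ConcreteCategory.bijective_of_isIso (f.app (V.ι ''ᵁ (V.ι ⁻¹ᵁ W)))
  rwa [him] at h4

/-- An open around `y` meeting the discrete complement of `V` at most in `y`. -/
theorem exists_sep (V : Y.Opens) (hdisc : DiscreteTopology ((V : Set Y)ᶜ : Set Y)) (y : Y) :
    ∃ O : Y.Opens, y ∈ O ∧ (y ∈ V → O ≤ V) ∧ ∀ z ∈ O, z ∉ V → z = y := by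
  by_cases hy : y ∈ V
  · exact ⟨V, hy, fun _ => le_rfl, fun z hz hzV => (hzV hz).elim⟩
  · haveI := hdisc
    obtain ⟨O, hO, hO'⟩ := isOpen_induced_iff.mp (isOpen_discrete ({⟨y, hy⟩} : Set ↥((V : Set Y)ᶜ)))
    refine ⟨⟨O, hO⟩, ?_, fun h => (hy h).elim, fun z hz hzV => ?_⟩
    · exact (show (⟨y, hy⟩ : ↥((V : Set Y)ᶜ)) ∈ Subtype.val ⁻¹' O by rw [hO']; rfl)
    · have : (⟨z, hzV⟩ : ↥((V : Set Y)ᶜ)) ∈ Subtype.val ⁻¹' O := hz
      rw [hO'] at this
      exact congrArg Subtype.val this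

/-- Along a finite morphism which is an isomorphism over `V`, the complement of `V` being discrete,
every invertible module is a pullback. -/
theorem exists_descend_finite (f : X ⟶ Y) [IsFinite f] (V : Y.Opens) (hV : IsIso (f ∣_ V))
    (hdisc : DiscreteTopology ((V : Set Y)ᶜ : Set Y)) {L : X.Modules} (hL : PicF.IsInvertible L) :
    ∃ N : Y.Modules, PicF.IsInvertible N ∧ Nonempty ((Scheme.Modules.pullback f).obj N ≅ L) := by
  have h : ∀ y : Y, ∃ (W : Y.Opens) (e : Γ(L, f ⁻¹ᵁ W)), y ∈ W ∧ (y ∈ V → W ≤ V) ∧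
      (∀ z ∈ W, z ∉ V → z = y) ∧ IsGen L (f ⁻¹ᵁ W) e := by
    intro y
    obtain ⟨O, hyO, hOV, hsep⟩ := exists_sep V hdisc y
    obtain ⟨W, e, hyW, hWO, he⟩ := exists_gen_fibre f hL hyO
    exact ⟨W, e, hyW, fun hy => hWO.trans (hOV hy), fun z hz hzV => hsep z (hWO hz) hzV, he⟩
  choose W e hyW hWV hsep he using h
  haveI := hV
  refine exists_descend_of_bij f W (fun y _ => Opens.mem_iSup.2 ⟨y, hyW y⟩) e he
    fun i j hij V' hV' => bijective_app_of_isIso f V (hV'.trans fun z hz => ?_)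
  by_contra hzV
  exact hij ((hsep i z hz.1 hzV).symm.trans (hsep j z hz.2 hzV))

end Groth.Agent.PicStar

end
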