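import Groth.Agent.PicStar.FiniteIso
import Groth.Agent.DimOneAmple.Main
import Groth.Agent.Props.AmpleBase
import Groth.Agent.PicThick.Root

/-!
# Invertible modules lift along closed immersions in dimension one

If the space of `X` is Noetherian of dimension at most one, every invertible module on a closed
subscheme of `X` extends to an invertible module on `X`.
-/

set_option autoImplicit false
set_option linter.style.haveILetI false
set_option backward.isDefEq.respectTransparency false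
set_option backward.isDefEq.respectTransparency.types false

universe u

open CategoryTheory AlgebraicGeometry Opposite TopologicalSpace

noncomputable section

namespace Groth.Agent.PicStar

open Groth.Agent.QCoh Groth.Agent.Props.GenLocus Groth.Agent.Props.GenPull
open Groth.Agent.Props.GenTensor

variable {X Z : Scheme.{u}}

/-- In dimension at most one, non-maximal points are closed. -/
theorem isClosed_singleton_of_not_generic (hdim : topologicalKrullDim X ≤ 1) {x : X}
    (hx : x ∉ genericPoints X) : IsClosed ({x} : Set X) := by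
  obtain ⟨g, hgx, hg⟩ := DimOneAmple.exists_maximal_specializes (X := X) x
  refine isClosed_of_closure_subset fun y hy => Set.mem_singleton_iff.2 (by_contra fun hne => ?_)
  have hxy : x ⤳ y := specializes_iff_mem_closure.2 hy
  let c : X → IrreducibleCloseds X := fun z =>
    ⟨closure {z}, isIrreducible_singleton.closure, isClosed_closure⟩
  have hlt : ∀ {a b : X}, b ⤳ a → a ≠ b → c a < c b := by
    intro a b hab hne'
    refine lt_of_le_of_ne (show closure {a} ⊆ closure {b} from hab.closure_subset) fun h => hne' ?_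
    exact (inseparable_iff_closure_eq.2 (congrArg (fun s : IrreducibleCloseds X => (s : Set X)) h)).eq
  let ser : LTSeries (IrreducibleCloseds X) :=
    LTSeries.mk 2 ![c y, c x, c g] (Fin.strictMono_iff_lt_succ.2 fun i => by
      fin_cases i
      · exact hlt hxy hne
      · exact hlt hgx (fun h => hx (h ▸ hg)))
  have h2 := (Order.LTSeries.length_le_krullDim ser).trans hdim
  change ((2 : ℕ) : WithBot ℕ∞) ≤ 1 at h2
  norm_num at h2

/-- A closed set of closed points in a sober Noetherian space is finite. -/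
theorem finite_of_closed_points {T : Type*} [TopologicalSpace T] [QuasiSober T] [NoetherianSpace T]
    {S : Set T} (hS : IsClosed S) (h : ∀ z ∈ S, IsClosed ({z} : Set T)) : S.Finite := by
  obtain ⟨𝒮, hf, hc, hi, rfl⟩ := NoetherianSpace.exists_finite_set_isClosed_irreducible hS
  refine hf.sUnion fun T' hT => ?_
  obtain ⟨g, hg⟩ := QuasiSober.sober (hi T' hT) (hc T' hT)
  refine Set.Subsingleton.finite ?_
  rw [← hg.def, (h g ⟨T', hT, hg.mem⟩).closure_eq]
  exact Set.subsingleton_singleton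

variable [NoetherianSpace X] (i : Z ⟶ X) [IsClosedImmersion i] {L : Z.Modules}

/-- A dense open on which the closed subscheme is clopen and `L` is trivial. -/
theorem exists_base (hL : PicF.IsInvertible L) :
    ∃ (V₀ : X.Opens) (e₀ : Γ(L, i ⁻¹ᵁ V₀)), IsGen L (i ⁻¹ᵁ V₀) e₀ ∧ genericPoints X ⊆ V₀ ∧
      ∃ A : X.Opens, (A : Set X) = (V₀ : Set X) ∩ Set.range i := by
  classical
  have hfin : (genericPoints X).Finite :=
    genericPoints.finite NoetherianSpace.finite_irreducibleComponents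
  let G : Set X := {η | η ∈ genericPoints X ∧ η ∈ Set.range i}
  haveI : Finite G := (hfin.subset fun η h => h.1).to_subtype
  have hO : ∀ η : G, ∃ (W : X.Opens) (e : Γ(L, i ⁻¹ᵁ W)), η.1 ∈ W ∧ (∀ z ∈ W, η.1 ⤳ z) ∧
      (∀ z ∈ W, ∀ η' ∈ genericPoints X, η' ⤳ z → η' = η.1) ∧ IsGen L (i ⁻¹ᵁ W) e := by
    intro η
    have hc : IsClosed (⋃ η' ∈ genericPoints X \ {η.1}, closure ({η'} : Set X)) :=
      hfin.sdiff.isClosed_biUnion fun _ _ => isClosed_closure
    obtain ⟨W, e, hηW, hWle, he⟩ := exists_gen_fibre i hL (O := ⟨_, hc.isOpen_compl⟩)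
      (y := η.1) (fun h => by
        obtain ⟨η', hη', h'⟩ := Set.mem_iUnion₂.mp h
        exact hη'.2 (DimOneAmple.mem_genericPoints_iff.mp η.2.1 η'
          (specializes_iff_mem_closure.mpr h')))
    have key : ∀ z ∈ W, ∀ η' ∈ genericPoints X, η' ⤳ z → η' = η.1 := by
      intro z hz η' hη' h
      by_contra hne
      exact hWle hz (Set.mem_iUnion₂.mpr ⟨η', ⟨hη', hne⟩, specializes_iff_mem_closure.mp h⟩)
    refine ⟨W, e, hηW, fun z hz => ?_, key, he⟩
    obtain ⟨g, hg, hgg⟩ := DimOneAmple.exists_maximal_specializes (X := X) z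
    exact key z hz g hgg hg ▸ hg
  choose W e hηW hWspec hWuniq he using hO
  have hWr : ∀ η : G, (W η : Set X) ⊆ Set.range i := fun η z hz =>
    (hWspec η z hz).mem_closed i.isClosedEmbedding.isClosed_range η.2.2
  have hdisj : ∀ η η' : G, η ≠ η' → W η ⊓ W η' ≤ ⊥ := fun η η' hne z hz => by
    obtain ⟨g, hg, hgg⟩ := DimOneAmple.exists_maximal_specializes (X := X) z
    exact (hne (Subtype.ext ((hWuniq η z hz.1 g hgg hg).symm.trans (hWuniq η' z hz.2 g hgg hg)))).elim
  let R : X.Opens := ⟨(Set.range i)ᶜ, i.isClosedEmbedding.isClosed_range.isOpen_compl⟩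
  let A : X.Opens := ⨆ η : G, W η
  let V₀ : X.Opens := R ⊔ A
  have hpre : i ⁻¹ᵁ V₀ ≤ ⨆ η : G, i ⁻¹ᵁ W η := fun x hx => by
    rcases hx with hx | hx
    · exact (hx ⟨x, rfl⟩).elim
    · obtain ⟨η, hη⟩ := Opens.mem_iSup.mp hx
      exact Opens.mem_iSup.mpr ⟨η, hη⟩
  have hle : ∀ η : G, i ⁻¹ᵁ W η ≤ i ⁻¹ᵁ V₀ := fun η =>
    i.preimage_mono ((le_iSup W η).trans le_sup_right)
  obtain ⟨e₀, he₀⟩ := exists_glue L hle hpre e (fun η η' => by
    by_cases h : η = η'
    · subst h; rfl
    · exact eq_of_locally_eq L (U := fun j : PEmpty.{1} => j.elim) (fun j => j.elim)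
        (fun x hx => (hdisj η η' h (show i x ∈ W η ⊓ W η' from hx)).elim) _ _ (fun j => j.elim))
  refine ⟨V₀, e₀, IsGen.of_local fun x hx => ?_, fun η hη => ?_, A, ?_⟩
  · obtain ⟨η, hη⟩ := Opens.mem_iSup.mp (hpre hx)
    exact ⟨i ⁻¹ᵁ W η, hle η, hη, by rw [he₀ η]; exact he η⟩
  · by_cases h : η ∈ Set.range i
    · exact Or.inr (Opens.mem_iSup.mpr ⟨⟨η, hη, h⟩, hηW _⟩)
    · exact Or.inl h
  · ext z
    refine ⟨fun hz => ⟨Or.inr hz, ?_⟩, fun hz => ?_⟩
    · obtain ⟨η, hη⟩ := Opens.mem_iSup.mp hz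
      exact hWr η hη
    · rcases hz.1 with h | h
      · exact (h hz.2).elim
      · exact h

/-- A neighbourhood of a closed point whose trace on `V₀` is affine. -/
theorem exists_punctured (hdim : topologicalKrullDim X ≤ 1) {V₀ : X.Opens}
    (hV₀ : genericPoints X ⊆ V₀) {x : X} (hx : x ∉ V₀) (hL : PicF.IsInvertible L) :
    ∃ (W : X.Opens) (e : Γ(L, i ⁻¹ᵁ W)), x ∈ W ∧ IsGen L (i ⁻¹ᵁ W) e ∧
      IsAffineOpen (W ⊓ V₀) ∧ ∀ z ∈ W, z ∉ V₀ → z = x := by
  classical
  have hclosed : ∀ z : X, z ∉ V₀ → IsClosed ({z} : Set X) := fun z hz =>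
    isClosed_singleton_of_not_generic hdim fun h => hz (hV₀ h)
  have hD : ((V₀ : Set X)ᶜ).Finite := finite_of_closed_points V₀.2.isClosed_compl hclosed
  have hDx : IsClosed ((V₀ : Set X)ᶜ \ {x}) := by
    rw [← Set.biUnion_of_singleton ((V₀ : Set X)ᶜ \ {x})]
    exact hD.sdiff.isClosed_biUnion fun z hz => hclosed z hz.1
  obtain ⟨W₁, e₁, hxW₁, hW₁le, he₁⟩ := exists_gen_fibre i hL (O := ⟨_, hDx.isOpen_compl⟩) (y := x)
    (fun h => h.2 rfl)
  obtain ⟨U, hU, hxU, hUW⟩ := exists_isAffineOpen_mem_and_subset (X := X) (x := x) (U := W₁) hxW₁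
  haveI : IsAffine (U : Scheme.{u}) := hU
  haveI : NoetherianSpace (U : Scheme.{u}) := U.ι.isOpenEmbedding.isInducing.noetherianSpace
  let P : (U : Scheme.{u}).Opens := U.ι ⁻¹ᵁ V₀
  let E : Set (U : Scheme.{u}) := U.ι ⁻¹' genericPoints X
  have hE : E.Finite := (genericPoints.finite NoetherianSpace.finite_irreducibleComponents).preimage
    U.ι.isOpenEmbedding.injective.injOn
  obtain ⟨a, ha, hEa, haP⟩ := Props.AmpleBase.exists_affine_basicOpen (W := P) hE
    (fun z hz => hV₀ hz)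
  let O : X.Opens := U.ι ''ᵁ (U : Scheme.{u}).basicOpen a
  have hO : IsAffineOpen O := ha.image_of_isOpenImmersion U.ι
  have hOU : O ≤ U := (U.ι.image_le_opensRange _).trans U.opensRange_ι.le
  have hOV : O ≤ V₀ := fun z ⟨w, hw, e⟩ => e ▸ haP hw
  have hEO : ∀ z ∈ U, z ∈ genericPoints X → z ∈ O := fun z hz hg =>
    ⟨⟨z, hz⟩, hEa (show (⟨z, hz⟩ : (U : Scheme.{u})) ∈ E from hg), rfl⟩
  let K : Set (U : Scheme.{u}) := ((U : Scheme.{u}).basicOpen a : Set (U : Scheme.{u}))ᶜ \ {⟨x, hxU⟩}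
  have hK0 : ∀ z ∈ ((U : Scheme.{u}).basicOpen a : Set (U : Scheme.{u}))ᶜ,
      IsClosed ({z} : Set (U : Scheme.{u})) := by
    intro z hz
    have h1 := isClosed_singleton_of_not_generic hdim (x := U.ι z) fun hg => hz (hEa hg)
    have h2 := h1.preimage U.ι.continuous
    convert h2 using 1
    ext w
    exact ⟨fun h => congrArg _ h, fun h => U.ι.isOpenEmbedding.injective h⟩
  have hK : IsClosed K := by
    rw [← Set.biUnion_of_singleton K]
    exact ((finite_of_closed_points ((U : Scheme.{u}).basicOpen a).2.isClosed_compl hK0).sdiff).isClosed_biUnion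
      fun z hz => hK0 z hz.1
  let W : X.Opens := U.ι ''ᵁ ⟨Kᶜ, hK.isOpen_compl⟩
  have hWU : W ≤ U := (U.ι.image_le_opensRange _).trans U.opensRange_ι.le
  have hWW₁ : W ≤ W₁ := fun z hz => hUW (hWU hz)
  have hsep : ∀ z ∈ W, z ∉ V₀ → z = x := fun z hz hzV =>
    by_contra fun hne => hW₁le (hWW₁ hz) ⟨hzV, hne⟩
  refine ⟨W, res L (i.preimage_mono hWW₁) e₁, ⟨⟨x, hxU⟩, fun h => h.2 rfl, rfl⟩,
    he₁.restrict _, ?_, hsep⟩
  have : W ⊓ V₀ = O := by
    refine le_antisymm ?_ (le_inf ?_ hOV)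
    · rintro z ⟨⟨w, hw, rfl⟩, hzV⟩
      refine ⟨w, by_contra fun hwa => hw ⟨hwa, fun h => ?_⟩, rfl⟩
      have h' : U.ι w = x := congrArg U.ι (Set.mem_singleton_iff.mp h)
      exact hx (h' ▸ hzV)
    · rintro z ⟨w, hw, rfl⟩
      exact ⟨w, fun h => h.1 hw, rfl⟩
  rw [this]
  exact hO

/-- Units on the closed subscheme lift over affine opens on which it is clopen. -/
theorem exists_unit_lift {O : X.Opens} (hO : IsAffineOpen O) (A : X.Opens)
    (hA : (O : Set X) ∩ Set.range i = (A : Set X) ∩ O) {c : Γ(Z, i ⁻¹ᵁ O)} (hc : IsUnit c) :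
    ∃ h : Γ(X, O), IsUnit h ∧ i.app O h = c := by
  obtain ⟨h₀, hh₀⟩ := i.app_surjective _ hO c
  let R : X.Opens := ⟨(Set.range i)ᶜ, i.isClosedEmbedding.isClosed_range.isOpen_compl⟩
  let U : Bool → X.Opens := fun b => cond b (A ⊓ O) (R ⊓ O)
  have hUO : ∀ b, U b ≤ O := fun b => by cases b <;> exact inf_le_right
  have hcov : O ≤ iSup U := fun z hz => by
    by_cases h : z ∈ Set.range i
    · exact Opens.mem_iSup.mpr ⟨true, (hA.le ⟨hz, h⟩).1, hz⟩
    · exact Opens.mem_iSup.mpr ⟨false, h, hz⟩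
  obtain ⟨h, hh, -⟩ := X.sheaf.existsUnique_gluing' U O (fun b => homOfLE (hUO b)) hcov
    (fun b => match b with
      | true => rres (hUO true) h₀
      | false => (1 : Γ(X, R ⊓ O)))
    (fun a b => by
      have hd : ∀ {V : X.Opens} (_ : V ≤ U true ⊓ U false) (s t : Γ(X, V)), s = t := fun hV s t =>
        X.sheaf.eq_of_locally_eq' (fun j : PEmpty.{1} => j.elim) _ (fun j => j.elim)
          (fun z hz => ((hV hz).2.1 (hA.ge ⟨(hV hz).1.1, (hV hz).1.2⟩).2).elim) s t (fun j => j.elim)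
      cases a <;> cases b
      · rfl
      · exact hd (inf_comm _ _).le _ _
      · exact hd le_rfl _ _
      · rfl)
  have happ : i.app O h = c := by
    have hpre : i ⁻¹ᵁ O ≤ i ⁻¹ᵁ U true := fun x hx => ⟨(hA.le ⟨hx, ⟨x, rfl⟩⟩).1, hx⟩
    have h1 : i.app (U true) (rres (hUO true) h) = i.app (U true) (rres (hUO true) h₀) :=
      congrArg (i.app (U true)) (hh true)
    rw [app_rres, app_rres] at h1
    have h2 := congrArg (rres hpre) h1
    rw [rres_rres, rres_rres, rres_self, rres_self, hh₀] at h2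
    exact h2
  refine ⟨h, X.toRingedSpace.isUnit_of_isUnit_germ O h fun z hz => ?_, happ⟩
  by_cases hr : z ∈ Set.range i
  · obtain ⟨y, rfl⟩ := hr
    refine (isUnit_map_iff (i.stalkMap y).hom _).mp ?_
    rw [Scheme.Hom.germ_stalkMap_apply, happ]
    exact hc.map _
  · have h1 : X.presheaf.germ (U false) z ⟨hr, hz⟩ (rres (hUO false) h) =
        X.presheaf.germ (U false) z ⟨hr, hz⟩ (1 : Γ(X, R ⊓ O)) :=
      congrArg (X.presheaf.germ (U false) z ⟨hr, hz⟩) (hh false)
    rw [map_one] at h1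
    rw [← X.presheaf.germ_res_apply (homOfLE (hUO false)) z ⟨hr, hz⟩ h]
    exact h1.symm ▸ isUnit_one

/-- Invertible modules lift along closed immersions into schemes with Noetherian space of
dimension at most one. -/
theorem exists_lift (hdim : topologicalKrullDim X ≤ 1) (hL : PicF.IsInvertible L) :
    ∃ N : X.Modules, PicF.IsInvertible N ∧ Nonempty ((Scheme.Modules.pullback i).obj N ≅ L) := by
  classical
  obtain ⟨V₀, e₀, he₀, hgen, A, hA⟩ := exists_base i hL
  choose W e hxW he haff hsep using fun x : {x : X // x ∉ V₀} =>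
    exists_punctured i hdim hgen x.2 hL
  let W' : Option {x : X // x ∉ V₀} → X.Opens := fun j => j.elim V₀ W
  let e' : ∀ j, Γ(L, i ⁻¹ᵁ W' j) := fun j => match j with
    | none => e₀
    | some x => e x
  have he' : ∀ j, IsGen L (i ⁻¹ᵁ W' j) (e' j) := by
    rintro (_ | x)
    · exact he₀
    · exact he x
  have hτ : ∀ j, ∃ τ : Γ(X, W' j ⊓ V₀), IsUnit τ ∧
      res L (i.preimage_mono (inf_le_left : W' j ⊓ V₀ ≤ W' j)) (e' j) =
        i.app _ τ • res L (i.preimage_mono (inf_le_right : W' j ⊓ V₀ ≤ V₀)) e₀ := by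
    rintro (_ | x)
    · exact ⟨1, isUnit_one, by rw [map_one, one_smul]; rfl⟩
    · obtain ⟨c, hc, -⟩ := he₀.exists_eq (i.preimage_mono (inf_le_right : W x ⊓ V₀ ≤ V₀))
        (res L (i.preimage_mono (inf_le_left : W x ⊓ V₀ ≤ W x)) (e x))
      obtain ⟨d, hd, -⟩ := (he x).exists_eq (i.preimage_mono (inf_le_left : W x ⊓ V₀ ≤ W x))
        (res L (i.preimage_mono (inf_le_right : W x ⊓ V₀ ≤ V₀)) e₀)
      have hcu : IsUnit c := by
        refine IsUnit.of_mul_eq_one_right d
          (he₀.injective (i.preimage_mono (inf_le_right : W x ⊓ V₀ ≤ V₀)) ?_)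
        rw [one_smul, mul_smul, ← hc, ← hd]
      obtain ⟨τ, hτu, hτ⟩ := exists_unit_lift i (haff x) A (by
        rw [hA]
        ext z
        exact ⟨fun h => ⟨⟨h.1.2, h.2⟩, h.1⟩, fun h => ⟨h.2, h.1.2⟩⟩) hcu
      exact ⟨τ, hτu, hc.trans (congrArg (· • _) hτ.symm)⟩
  choose τ hτu hτ using hτ
  have hdia : ∀ j k, j ≠ k → W' j ⊓ W' k ≤ V₀ := by
    rintro (_ | x) (_ | y) hne z ⟨hzj, hzk⟩
    · exact hzj
    · exact hzj
    · exact hzk
    · by_contra hzV
      exact hne (congrArg some (Subtype.ext ((hsep x z hzj hzV).symm.trans (hsep y z hzk hzV))))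
  have ha : ∀ j k, ∃ a : Γ(X, W' j ⊓ W' k), (j = k → a = 1) ∧
      ∀ (V : X.Opens) (h : V ≤ W' j ⊓ W' k) (hV : V ≤ V₀),
        rres h a * rres (le_inf (h.trans inf_le_left) hV) (τ j) =
          rres (le_inf (h.trans inf_le_right) hV) (τ k) := by
    intro j k
    by_cases hjk : j = k
    · subst hjk; exact ⟨1, fun _ => rfl, fun V h hV => by rw [map_one, one_mul]⟩
    · obtain ⟨w, hw⟩ := (hτu j).map (rres (le_inf inf_le_left (hdia j k hjk))).hom
      refine ⟨rres (le_inf inf_le_right (hdia j k hjk)) (τ k) * (↑w⁻¹ : Γ(X, W' j ⊓ W' k)),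
        fun h => (hjk h).elim, fun V h hV => ?_⟩
      rw [map_mul, rres_rres, mul_assoc]
      have h1 : rres (le_inf (h.trans inf_le_left) hV) (τ j) = rres h (w : Γ(X, W' j ⊓ W' k)) := by
        rw [hw, rres_rres]
      rw [h1, ← map_mul, Units.inv_mul, map_one, mul_one]
  choose a ha1 ha using ha
  let C : LineCoc.Cocycle X :=
    { ι := Option {x : X // x ∉ V₀}
      W := W'
      a := a
      cover := fun z _ => by
        by_cases hz : z ∈ V₀
        · exact Opens.mem_iSup.mpr ⟨none, hz⟩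
        · exact Opens.mem_iSup.mpr ⟨some ⟨z, hz⟩, hxW ⟨z, hz⟩⟩
      self := fun j => ha1 j j rfl
      coc := fun j k l V h₁ h₂ h₃ => by
        by_cases hjk : j = k
        · subst hjk; rw [ha1 j j rfl, map_one, one_mul]
        · have hV : V ≤ V₀ := h₁.trans (hdia j k hjk)
          refine ((hτu j).map (rres (le_inf (h₁.trans inf_le_left) hV)).hom).mul_right_cancel ?_
          rw [ha j l V h₃ hV, ← ha k l V h₂ hV, ← ha j k V h₁ hV, mul_comm (rres h₁ (a j k)),
            mul_assoc] }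
  refine ⟨LineCoc.mod C, LineCoc.isInvertible C, nonempty_iso_mod i C e' he' fun j k => ?_⟩
  show res L _ (e' k) = i.app _ (a j k) • res L _ (e' j)
  by_cases hjk : j = k
  · subst hjk
    rw [ha1 j j rfl, map_one, one_smul]
  · have hV := hdia j k hjk
    have h1 := congrArg (res L (i.preimage_mono (le_inf inf_le_left hV : W' j ⊓ W' k ≤ W' j ⊓ V₀))) (hτ j)
    have h2 := congrArg (res L (i.preimage_mono (le_inf inf_le_right hV : W' j ⊓ W' k ≤ W' k ⊓ V₀))) (hτ k)
    rw [res_smul, res_res, res_res,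
      ← app_rres i (le_inf inf_le_left hV : W' j ⊓ W' k ≤ W' j ⊓ V₀)] at h1
    rw [res_smul, res_res, res_res,
      ← app_rres i (le_inf inf_le_right hV : W' j ⊓ W' k ≤ W' k ⊓ V₀)] at h2
    have h3 := ha j k _ le_rfl hV
    rw [rres_self] at h3
    rw [h2, h1, smul_smul, ← map_mul, h3]

end Groth.Agent.PicStar

end
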