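import Groth.Agent.Props.GenPull
import Groth.Agent.ProjTwist.Invertible
import Mathlib.AlgebraicGeometry.Morphisms.Finite
import Mathlib.AlgebraicGeometry.Morphisms.QuasiFinite

/-!
# Invertible modules near the fibres of finite morphisms

An invertible module on a scheme is trivial on a neighbourhood, of the form `f ⁻¹ W`, of any fibre
of a finite morphism `f`.
-/

set_option autoImplicit false
set_option linter.style.haveILetI false
set_option backward.isDefEq.respectTransparency false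
set_option backward.isDefEq.respectTransparency.types false

universe u

open CategoryTheory AlgebraicGeometry Opposite TopologicalSpace

noncomputable section

namespace Groth.Agent.PicStar

open Groth.Agent.QCoh Groth.Agent.Props.GenLocus

variable {X : Scheme.{u}}

/-- For an affine open and finitely many pairwise incomparable points in it, an invertible module has
a section over the open generating near each of the points. -/
theorem exists_sec_gen {L : X.Modules} (hL : PicF.IsInvertible L) {U : X.Opens} (hU : IsAffineOpen U)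
    (S : Finset X) (hSU : ∀ y ∈ S, y ∈ U) (hS : ∀ y ∈ S, ∀ z ∈ S, y ⤳ z → y = z) :
    ∃ σ : Γ(L, U), ∀ y ∈ S, ∃ (O : X.Opens) (h : O ≤ U), y ∈ O ∧ IsGen L O (res L h σ) := by
  classical
  haveI : L.IsQuasicoherent := ProjTwist.isQCoh_of_isInvertible hL
  have hloc : ∀ y : {y // y ∈ S}, ∃ (a : Γ(X, U)) (t : Γ(L, U)), y.1 ∈ X.basicOpen a ∧
      IsGen L (X.basicOpen a) (res L (X.basicOpen_le a) t) := by
    intro y
    obtain ⟨O, e, hyO, he⟩ := exists_isGen hL y.1
    obtain ⟨a, haO, hya⟩ := hU.exists_basicOpen_le ⟨y.1, hyO⟩ (hSU y.1 y.2)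
    obtain ⟨n, t, ht⟩ := (isLocalizingAt L hU a).surj (res L haO e)
    refine ⟨a, t, hya, ?_⟩
    rw [ht]
    exact (he.restrict haO).smul_unit ((RingedSpace.isUnit_res_basicOpen _ a).pow n)
  choose a t hya hgen using hloc
  have hsep : ∀ y z : {y // y ∈ S}, ∃ b : Γ(X, U),
      y.1 ∈ X.basicOpen b ∧ (y ≠ z → z.1 ∉ X.basicOpen b) := by
    intro y z
    by_cases hyz : y = z
    · exact ⟨1, by rw [Scheme.basicOpen_of_isUnit _ isUnit_one]; exact hSU y.1 y.2,
        fun h => (h hyz).elim⟩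
    · have h0 : ¬ z.1 ⤳ y.1 := fun h => hyz (Subtype.ext (hS z.1 z.2 y.1 y.2 h).symm)
      rw [specializes_iff_forall_open] at h0
      push Not at h0
      obtain ⟨O, hO, hyO, hzO⟩ := h0
      obtain ⟨b, hb, hyb⟩ := hU.exists_basicOpen_le (V := ⟨O, hO⟩) ⟨y.1, hyO⟩ (hSU y.1 y.2)
      exact ⟨b, hyb, fun _ h => hzO (hb h)⟩
  choose b hyb hzb using hsep
  let B : {y // y ∈ S} → Γ(X, U) := fun y => ∏ z, b y z
  have hBy : ∀ y, y.1 ∈ X.basicOpen (B y) := by
    intro y
    have h1 : ∀ T : Finset {y // y ∈ S}, y.1 ∈ X.basicOpen (∏ z ∈ T, b y z) := by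
      intro T
      induction T using Finset.induction_on with
      | empty => rw [Finset.prod_empty, Scheme.basicOpen_of_isUnit _ isUnit_one]; exact hSU y.1 y.2
      | insert z T hz ih => rw [Finset.prod_insert hz, Scheme.basicOpen_mul]; exact ⟨hyb y z, ih⟩
    exact h1 Finset.univ
  have hBz : ∀ y z, y ≠ z → z.1 ∉ X.basicOpen (B y) := by
    intro y z hne h
    have e : B y = b y z * ∏ w ∈ Finset.univ.erase z, b y w :=
      (Finset.mul_prod_erase _ _ (Finset.mem_univ z)).symm
    rw [e, Scheme.basicOpen_mul] at h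
    exact hzb y z hne h.1
  refine ⟨∑ z, B z • t z, fun y hy => ?_⟩
  let y' : {y // y ∈ S} := ⟨y, hy⟩
  have hle : X.basicOpen (a y') ≤ U := X.basicOpen_le _
  choose c hc using fun z => ((hgen y').exists_eq le_rfl (res L hle (t z))).exists
  let C : Γ(X, X.basicOpen (a y')) := ∑ z, rres hle (B z) * c z
  have hyA : y ∈ X.basicOpen (a y') := hya y'
  have hσ : res L hle (∑ z, B z • t z) = C • res L hle (t y') := by
    rw [map_sum, Finset.sum_smul]
    refine Finset.sum_congr rfl fun z _ => ?_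
    rw [res_smul, hc z, res_self, smul_smul]
  have hcy : c y' = 1 := ((hgen y').injective le_rfl
    (show (1 : Γ(X, X.basicOpen (a y'))) • res L le_rfl (res L hle (t y')) =
      c y' • res L le_rfl (res L hle (t y')) by rw [one_smul, res_self]; exact (hc y').trans (by rw [res_self]))).symm
  have hC : y ∈ X.basicOpen C := by
    rw [Scheme.mem_basicOpen _ _ _ hyA, map_sum]
    let G := X.presheaf.germ (X.basicOpen (a y')) y hyA
    have hg : ∀ z, G (rres hle (B z)) = X.presheaf.germ U y (hle hyA) (B z) :=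
      fun z => X.presheaf.germ_res_apply _ y hyA (B z)
    have hmax : ∑ z ∈ Finset.univ.erase y', G (rres hle (B z) * c z) ∈
        IsLocalRing.maximalIdeal (X.presheaf.stalk y) := by
      refine Ideal.sum_mem _ fun z hz => ?_
      rw [map_mul, hg]
      refine Ideal.mul_mem_right _ _ ?_
      rw [IsLocalRing.mem_maximalIdeal]
      intro h
      exact hBz z y' (Finset.ne_of_mem_erase hz) ((Scheme.mem_basicOpen _ _ _ (hle hyA)).mpr h)
    have hu : IsUnit (G (rres hle (B y') * c y')) := by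
      rw [hcy, mul_one, hg]
      exact (Scheme.mem_basicOpen _ _ _ (hle hyA)).mp (hBy y')
    show IsUnit (∑ z, G (rres hle (B z) * c z))
    rw [← Finset.add_sum_erase _ _ (Finset.mem_univ y')]
    by_contra hn
    have h0 : G (rres hle (B y') * c y') + ∑ z ∈ Finset.univ.erase y', G (rres hle (B z) * c z) ∈
        IsLocalRing.maximalIdeal (X.presheaf.stalk y) := (IsLocalRing.mem_maximalIdeal _).mpr hn
    have h1 := Ideal.sub_mem _ h0 hmax
    rw [add_sub_cancel_right] at h1
    exact (IsLocalRing.mem_maximalIdeal _).mp h1 hu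
  refine ⟨X.basicOpen C, (X.basicOpen_le C).trans hle, hC, ?_⟩
  rw [← res_res L hle (X.basicOpen_le C), hσ, res_smul]
  exact ((hgen y').restrict (X.basicOpen_le C)).smul_unit (RingedSpace.isUnit_res_basicOpen _ C)

/-- An invertible module is trivial near each fibre of a finite morphism. -/
theorem exists_gen_fibre {Y : Scheme.{u}} (f : X ⟶ Y) [IsFinite f] {L : X.Modules}
    (hL : PicF.IsInvertible L) {O : Y.Opens} {y : Y} (hy : y ∈ O) :
    ∃ (W : Y.Opens) (e : Γ(L, f ⁻¹ᵁ W)), y ∈ W ∧ W ≤ O ∧ IsGen L (f ⁻¹ᵁ W) e := by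
  obtain ⟨_, ⟨U, hU, rfl⟩, hyU, hUO⟩ := Y.isBasis_affineOpens.exists_subset_of_mem_open hy O.2
  have hU' : IsAffineOpen (f ⁻¹ᵁ U) := hU.preimage f
  have hfin : (f ⁻¹' {y}).Finite := f.finite_preimage_singleton y
  obtain ⟨σ, hσ⟩ := exists_sec_gen hL hU' hfin.toFinset
    (fun x hx => by
      have : f x = y := by simpa using hx
      show f x ∈ U
      rw [this]; exact hyU)
    (fun x hx z hz h => by
      rw [Set.Finite.mem_toFinset] at hx hz
      haveI := (f.isDiscrete_preimage_singleton y).to_subtype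
      have h1 : (⟨x, hx⟩ : ↥(f ⁻¹' {y})) ⤳ ⟨z, hz⟩ :=
        (Topology.IsEmbedding.subtypeVal.isInducing.specializes_iff).mp h
      exact congrArg Subtype.val h1.eq)
  let G : Set X := {x | ∃ (V : X.Opens) (h : V ≤ f ⁻¹ᵁ U), x ∈ V ∧ IsGen L V (res L h σ)}
  have hG : IsOpen G := isOpen_iff_forall_mem_open.mpr fun x ⟨V, h, hxV, hV⟩ =>
    ⟨V, fun z hz => ⟨V, h, hz, hV⟩, V.2, hxV⟩
  have hcl : IsClosed (f '' Gᶜ) := f.isClosedMap _ hG.isClosed_compl
  let W : Y.Opens := U ⊓ ⟨(f '' Gᶜ)ᶜ, hcl.isOpen_compl⟩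
  have hWU : W ≤ U := inf_le_left
  refine ⟨W, res L (f.preimage_mono hWU) σ, ⟨hyU, ?_⟩, fun z hz => hUO (hWU hz), ?_⟩
  · rintro ⟨x, hx, rfl⟩
    obtain ⟨V, h, hxV, hV⟩ := hσ x (hfin.mem_toFinset.mpr rfl)
    exact hx ⟨V, h, hxV, hV⟩
  · refine IsGen.of_local fun x hx => ?_
    obtain ⟨V, h, hxV, hV⟩ : x ∈ G := by
      by_contra hx'
      exact hx.2 ⟨x, hx', rfl⟩
    refine ⟨V ⊓ f ⁻¹ᵁ W, inf_le_right, ⟨hxV, hx⟩, ?_⟩
    have := hV.restrict (inf_le_left : V ⊓ f ⁻¹ᵁ W ≤ V)
    rw [res_res] at this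
    rw [res_res]
    exact this

end Groth.Agent.PicStar

end
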